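import Cfsg.Agent.Mrg.Omega.NO3S.FarQ.End
import Cfsg.Agent.Mrg.Omega.NO3S.PB.Geom
import Cfsg.Agent.Mrg.Omega.NO3S.FarQ.Real


/-!
# NO-3S, natural lines, `q ≥ 4`, the `(R, B)`-frame: `n ≥ 3` is impossible, and `n = 2` is `Single`
(copy of `FarQ/End.lean`)
-/

set_option autoImplicit false
set_option linter.unusedSectionVars false

namespace Cfsg.Agent.Omega.NO3S.FarB

open Subgroup Cfsg Cfsg.Agent.ZN Cfsg.Agent.MinSimple.VModule Cfsg.Agent.Omega.NOThree.Pts
open Cfsg.Agent.Omega.NO3S.FarQ (FlagK NoOv PSall KNO KPS Img Real RD RD.ext noOver Single PSq Asm.far Asm.mid)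
open Cfsg.Agent.Omega.NO3S.FarQ.Glue Cfsg.Agent.Omega.NO3S.PT Cfsg.Agent.Omega.NO3S.PtGeom
open Cfsg.Agent.Omega.NOThree.LemmaM (NoOver)
open scoped Pointwise

universe u

section

variable {G : Type u} [Group G] [Finite G] {S : Sylow 2 G} {B P V Z : Subgroup G} (h : PB S B P V Z)
include h

/-- an involution centralising a point and fixing another point on a line -/
theorem inv_pt : Plug.Inv (inc (Z := Z) (V := V)) (fun x => x.sg) := by
  intro x y m hx hy hne g hg hgx hgy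
  exact h.inv_fix m.isCj x.isCj hx y.isCj hy (fun e => hne (Pt.ext e)) hg
    (fun u hu => (mem_centralizer_iff.1 hgx u hu).symm) (congrArg Pt.sg hgy)

variable (hO : OmB B V) (hq : 4 ≤ Nat.card Z) (hNO : KNO.{u} (fun H _ => Img (centralizer (Z : Set G)) H))
  (hPS : KPS.{u} (fun H _ => Img (centralizer (Z : Set G)) H))
include hO hq hNO hPS

/-- **FarQ: there is no critical pair at distance `n ≥ 3`.** -/
theorem far_false {n : ℕ} (hn : 3 ≤ n) {x y : Pt Z}
    (hc : Crit (inc (Z := Z) (V := V)) (fun x : Pt Z => ws V x.sg) n x y) : False := by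
  have hf := hf_of_kin h hq (by omega) hc hNO hPS
  have D := PB.Geom.geom h hf hO
  obtain ⟨H, M, K, iH, iM, iA, iK, ρ, π, ζ, T, lam, U, Kh, F⟩ := exists_rd h hf hO hq
  have hI : Img (centralizer (Z : Set G)) H :=
    ⟨MonoidHom.mk' (fun a => ρ a) (fun a b => F.re.mul a a.2 b b.2), fun x => by
      obtain ⟨g, hg, rfl⟩ := F.re.surj x
      exact ⟨⟨g, hg⟩, rfl⟩⟩
  obtain ⟨Pi, hPi⟩ := hPS H M K T lam hI F.flag.toK F.flag.sqR F.flag.cardR
  obtain ⟨κ, E⟩ := F.ext
  have hflag : ∀ (p' : Pt Z) (l' : Pt V), inc p' l' → ∃ g : G, p' = g • Pt.base Z ∧ l' = g • Pt.base V :=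
    fun p' l' hp => exists_smul_flag h hp
  refine FarQ.Asm.far D hn (noOver D F.toRF hflag (hNO H M T lam hI F.flag.toK)) ?_ hc
  by_cases hs : Single Pi lam
  · exact Or.inr (FarQ.Plug.sp D F.toRF hflag F.flag hPi.toPSq hs)
  · exact Or.inl (Plug.ns D F.toRF hflag F.flag hPi.toPSq E (inv_pt h) (by omega) hs)

omit hPS in
/-- **MidQ: for `n = 2` the blocks are `Single`.** -/
theorem mid_single (hf : ¬ kx V Z ≤ centralizer (V : Set G)) {x y : Pt Z}
    (hc : Crit (inc (Z := Z) (V := V)) (fun x : Pt Z => ws V x.sg) 2 x y)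
    {H M K : Type u} [Group H] [CommGroup M] [MulDistribMulAction H M] [CommGroup K] {ρ : G → H} {π : G → M}
    {ζ : K →* G} {T : Subgroup H} {lam U : Subgroup M} {Kh : Subgroup (M →* K)}
    (F : RD (inc (Z := Z) (V := V)) (fun x => x.sg) (fun x => ws V x.sg) (fun l => l.sg) (Pt.base Z) (Pt.base V)
        B ρ π ζ T lam U Kh) {Pi : Set (Subgroup H)} (hPi : PSq K T lam Pi) : Single Pi lam := by
  by_contra hs
  have D := PB.Geom.geom h hf hO
  have hI : Img (centralizer (Z : Set G)) H :=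
    ⟨MonoidHom.mk' (fun a => ρ a) (fun a b => F.re.mul a a.2 b b.2), fun x => by
      obtain ⟨g, hg, rfl⟩ := F.re.surj x
      exact ⟨⟨g, hg⟩, rfl⟩⟩
  obtain ⟨κ, E⟩ := F.ext
  have hflag : ∀ (p' : Pt Z) (l' : Pt V), inc p' l' → ∃ g : G, p' = g • Pt.base Z ∧ l' = g • Pt.base V :=
    fun p' l' hp => exists_smul_flag h hp
  exact FarQ.Asm.mid D (noOver D F.toRF hflag (hNO H M T lam hI F.flag.toK))
    (Plug.ns D F.toRF hflag F.flag hPi E (inv_pt h) le_rfl hs) hc

end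

end Cfsg.Agent.Omega.NO3S.FarB
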