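import Cfsg.Agent.Mrg.Omega.NO3S.FarB.Node
import Cfsg.Agent.Mrg.Omega.FOne.QR.Def

section


/-!
# (F1), `q ≥ 4`, every stage: the socket `FOneB` from an abstract statement about `(H, W, R, V)`

* `RDat T A V R π` : `H` acts on `W`, centralises `R`, is faithful on `M = W / R`, `lam = V / R`, `C_W(T) ≤ R`, `A ≠ 1` exact
  in `O₂(C_H(lam))`, liftwise fixed points (helper81's `FOne.Q.Hyp` with `fixM` replaced by `cent`);
* `FOneR` : `RDat` is contradictory;
* **`fOneB_of_R`** : `MLK → FOneR → NO3S.FOneB K` (every stage, `n ≥ 1`).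
-/

set_option autoImplicit false
set_option linter.unusedSectionVars false

namespace Cfsg.Agent.Omega.NO3S.FarB

open Subgroup Cfsg Cfsg.Agent.Omega.NO3S.PT
open Cfsg.Agent.ZN (o2)
open Cfsg.Agent.MinSimple.VModule (o2_le)
open Cfsg.Agent.Omega.NO3S.PtGeom (Pt)
open Cfsg.Agent.Omega.NO3S.FarQ (FlagK NoOv KNO Img Exact zm fixer kno_of_mlk)
open Cfsg.Agent.Omega.NO3S.FarQ.FOne (Off ph rh img mem_img mem_img_of card_img rho_one rho_inv eq_of_rho
  cent_conj pi_inv)
open Cfsg.Agent.Omega.ML.Final (MLK)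
open Cfsg.Agent.Omega.Frame (Cls)
open Cfsg.Agent.ClassTwoFusion.Quad (cv mem_cv cv_anti)
open scoped Pointwise

universe u

/-- **The data at the point `R`** (every stage). -/
structure RDat {H W M : Type u} [Group H] [CommGroup W] [MulDistribMulAction H W] [CommGroup M]
    [MulDistribMulAction H M] (T A : Subgroup H) (V R : Subgroup W) (π : W →* M) : Prop where
  known : IsKGroupWith IsKnownSimple' H
  finW : Finite W
  sq : ∀ w : W, w * w = 1
  surj : Function.Surjective π
  dat : FarQ.FOneAbs.Dat T V R π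
  flag : FlagK T (V.map π)
  full : ∀ v ∈ V, v ∉ R → ∀ r ∈ R, ∃ t ∈ T, (t • v) * v⁻¹ = r
  /-- `C_W(T) ≤ R` -/
  cent : ∀ w : W, (∀ t ∈ T, t • w = w) → w ∈ R
  ex : Exact (V.map π) A
  AV : ∀ x ∈ A, ∀ v ∈ V, x • v = v
  fix : ∀ w : W, (∀ x ∈ A, x • π w = π w) → ∀ x ∈ A, x • w = w

/-- **(F1) for `q ≥ 4`, abstract form, every stage.** -/
def FOneR : Prop :=
  ∀ (H W M : Type u) [Group H] [CommGroup W] [MulDistribMulAction H W] [CommGroup M] [MulDistribMulAction H M]
    (T A : Subgroup H) (V R : Subgroup W) (π : W →* M), RDat T A V R π → False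

section main

variable {G : Type u} [Group G] [Finite G] {S : Sylow 2 G} {B₀ P V Z : Subgroup G} (h : PB S B₀ P V Z)
variable {H M : Type u} [Group H] [CommGroup M] [MulDistribMulAction H M] {ρ : G → H} {π : G → M}
include h

/-- **The contradiction at the base flag.** -/
theorem false_baseR (r : FarQ.Real V Z ρ π) (hR : FOneR.{u}) (hKG : IsKGroupWith IsKnownSimple' H)
    (hf : kx V Z ≤ centralizer (V : Set G)) {B : Subgroup G} (hB : Off V V Z B)
    (hne : ¬ B ≤ centralizer (ws V Z : Set G))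
    (hle : (centralizer (B : Set G)).relIndex (ws V Z) ≤ (centralizer (ws V Z : Set G)).relIndex B)
    (hNO : ∀ A : Subgroup H, A ≤ o2 (fixer ((V.subgroupOf (ws V Z)).map (ph r))) →
      (∀ a ∈ A, ∀ b ∈ A, a * b = b * a) → (∀ a ∈ A, a * a = 1) →
      (∀ a ∈ A, ∀ b ∈ A, ∀ m : M, b • ((a • m) * m⁻¹) = (a • m) * m⁻¹) → Nat.card A ≤ (zm M A).index)
    (hF : FlagK (FOne.tt h r) ((V.subgroupOf (ws V Z)).map (ph r))) : False := by
  have hBC := FOne.Off.le_cent h hB
  set A := img r hBC with hA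
  have hkc := FOne.kx_le h hf
  have hke := FOne.kx_eq h hf
  have hcard : Nat.card A = (centralizer (ws V Z : Set G)).relIndex B := by rw [hA, card_img r hBC, hke]
  have hcomm : ∀ a ∈ A, ∀ b ∈ A, a * b = b * a := by
    intro x hx y hy
    obtain ⟨a, ha, rfl⟩ := (mem_img r).1 hx
    obtain ⟨b, hb, rfl⟩ := (mem_img r).1 hy
    rw [← r.mulρ _ (hBC ha) _ (hBC hb), ← r.mulρ _ (hBC hb) _ (hBC ha), hB.comm a ha b hb]
  have hsq : ∀ a ∈ A, a * a = 1 := by
    intro x hx
    obtain ⟨a, ha, rfl⟩ := (mem_img r).1 hx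
    rw [← r.mulρ _ (hBC ha) _ (hBC ha), hB.sq a ha, rho_one r]
  have hact : ∀ a ∈ B, ∀ w ∈ ws V Z, (ρ a • π w) * (π w)⁻¹ = π (a * w * a⁻¹ * w⁻¹) := by
    intro a ha w hw
    rw [← r.act a (hBC ha) w hw, ← pi_inv r hw, ← r.mulπ _ (cent_conj r (hBC ha) hw) _ (inv_mem hw)]
  have hcW : ∀ a ∈ B, ∀ w ∈ ws V Z, a * w * a⁻¹ * w⁻¹ ∈ ws V Z := fun a ha w hw =>
    mul_mem (cent_conj r (hBC ha) hw) (inv_mem hw)
  have hquad : ∀ a ∈ A, ∀ b ∈ A, ∀ m : M, b • ((a • m) * m⁻¹) = (a • m) * m⁻¹ := by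
    intro x hx y hy m
    obtain ⟨a, ha, rfl⟩ := (mem_img r).1 hx
    obtain ⟨b, hb, rfl⟩ := (mem_img r).1 hy
    obtain ⟨w, hw, rfl⟩ := r.surjπ m
    rw [hact a ha w hw, ← r.act b (hBC hb) _ (hcW a ha w hw), hB.comm b hb _ (hB.nor a ha w hw),
      mul_inv_cancel_right]
  have hAle : A ≤ o2 (fixer ((V.subgroupOf (ws V Z)).map (ph r))) := FOne.img_le h r hB
  have h1 := hNO A hAle hcomm hsq hquad
  have hsurj : Function.Surjective (ph r) := fun m => by
    obtain ⟨w, hw, rfl⟩ := r.surjπ m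
    exact ⟨⟨w, hw⟩, rfl⟩
  have h2 := index_comap_of_surjective (zm M A) hsurj
  have h3 : (centralizer (B : Set G)).subgroupOf (ws V Z) ≤ (zm M A).comap (ph r) := by
    intro w hw
    rw [mem_comap, mem_cv]
    intro x hx
    obtain ⟨a, ha, rfl⟩ := (mem_img r).1 hx
    have h4 := hact a ha w w.2
    have h5 : a * w * a⁻¹ * (w : G)⁻¹ = 1 := by
      have h6 := mem_centralizer_iff.1 (mem_subgroupOf.1 hw) a ha
      rw [h6, mul_inv_cancel_right, mul_inv_cancel]
    rw [h5] at h4
    have h7 : π 1 = 1 := (ph r).map_one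
    rw [h7, mul_inv_eq_one] at h4
    exact h4
  have h4 : ((zm M A).comap (ph r)).index ≤ ((centralizer (B : Set G)).subgroupOf (ws V Z)).index :=
    Nat.le_of_dvd (Nat.pos_of_ne_zero index_ne_zero_of_finite) (index_dvd_of_le h3)
  have h5 : ((centralizer (B : Set G)).subgroupOf (ws V Z)).index ≤ Nat.card A := by
    rw [hcard]; exact hle
  have h6 : (zm M A).comap (ph r) ≤ (centralizer (B : Set G)).subgroupOf (ws V Z) :=
    FOne.le_of_index_le h3 (by omega)
  have hex : Exact ((V.subgroupOf (ws V Z)).map (ph r)) A := by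
    refine ⟨fun e => hne fun b hb => ?_, hAle, hcomm, hsq, hquad, by omega⟩
    have h7 : ρ b ∈ A := mem_img_of r hb
    rw [e, mem_bot] at h7
    exact hkc ((r.kerρ b (hBC hb)).1 h7)
  -- the action on `W`
  choose σ hσ1 hσ2 using r.surjρ
  let _ : CommGroup (ws V Z) :=
    { (inferInstance : Group (ws V Z)) with
      mul_comm := fun a b => Subtype.ext (mem_centralizer_iff.1 (h.Wcomm b.2) a a.2) }
  let _ : MulDistribMulAction H (ws V Z) :=
    { smul := fun x w => ⟨σ x * w * (σ x)⁻¹, cent_conj r (hσ1 x) w.2⟩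
      one_smul := fun w => Subtype.ext (by
        show σ 1 * (w : G) * (σ 1)⁻¹ = w
        rw [eq_of_rho r (hσ1 1) (one_mem _) hkc ((hσ2 1).trans (rho_one r).symm) w.2]
        group)
      mul_smul := fun x y w => Subtype.ext (by
        show σ (x * y) * (w : G) * (σ (x * y))⁻¹ = σ x * (σ y * w * (σ y)⁻¹) * (σ x)⁻¹
        rw [eq_of_rho r (hσ1 (x * y)) (mul_mem (hσ1 x) (hσ1 y)) hkc
          (by rw [hσ2, r.mulρ _ (hσ1 x) _ (hσ1 y), hσ2, hσ2]) w.2]
        group)
      smul_mul := fun x w w' => Subtype.ext (by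
        show σ x * ((w : G) * w') * (σ x)⁻¹ = σ x * w * (σ x)⁻¹ * (σ x * w' * (σ x)⁻¹)
        group)
      smul_one := fun x => Subtype.ext (by
        show σ x * (1 : G) * (σ x)⁻¹ = 1
        group) }
  have hsm : ∀ a ∈ centralizer (Z : Set G), ∀ w : ws V Z, ((ρ a • w : ws V Z) : G) = a * w * a⁻¹ := by
    intro a ha w
    show σ (ρ a) * (w : G) * (σ (ρ a))⁻¹ = a * w * a⁻¹
    exact eq_of_rho r (hσ1 _) ha hkc (hσ2 _) w.2
  have D : FarQ.FOneAbs.Dat (FOne.tt h r) (V.subgroupOf (ws V Z)) (Z.subgroupOf (ws V Z)) (ph r) := by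
    refine ⟨FOne.finite_H r, fun w => r.kerπ w w.2, ?_, ?_, ?_, ?_, ?_, ?_, ?_⟩
    · intro x w
      show π (σ x * w * (σ x)⁻¹) = x • π w
      rw [r.act _ (hσ1 x) w w.2, hσ2]
    · intro x w hw
      refine Subtype.ext ?_
      show σ x * (w : G) * (σ x)⁻¹ = w
      rw [← mem_centralizer_iff.1 (hσ1 x) w hw, mul_inv_cancel_right]
    · intro t ht v hv
      obtain ⟨s, hs, rfl⟩ := (mem_img r).1 ht
      rw [mem_subgroupOf]
      show ((ρ s • v : ws V Z) : G) * (v : G)⁻¹ ∈ Z
      rw [hsm s (h.B_le hs)]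
      exact h.act s hs v hv
    · intro w hw
      exact h.ZV hw
    · intro t ht v hv hvZ e u hu
      obtain ⟨s, hs, rfl⟩ := (mem_img r).1 ht
      have e1 := congrArg Subtype.val e
      rw [hsm s (h.B_le hs)] at e1
      refine Subtype.ext ?_
      rw [hsm s (h.B_le hs)]
      have e2 := h.free s hs v hv (fun e => hvZ e) (mul_inv_eq_iff_eq_mul.1 e1) u hu
      rw [e2, mul_inv_cancel_right]
    · obtain ⟨Y, hY, hYV, hYne⟩ := h.exists_second h.isCj_self h.ZV
      obtain ⟨v, hv, hv1⟩ := h.pt_ne_bot hY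
      have hvZ : v ∉ Z := fun e => hYne (h.pts_eq hY h.isCj_self hv e hv1)
      obtain ⟨z, hz, hz1⟩ := h.pt_ne_bot h.isCj_self
      obtain ⟨s, hs, hsz⟩ := h.full v (hYV hv) hvZ z hz
      refine ⟨ρ s, mem_img_of r hs, ⟨v, h.V_le_ws h.ZV (hYV hv)⟩, hYV hv, fun e => hz1 ?_⟩
      have e1 := congrArg Subtype.val e
      rw [hsm s (h.B_le hs)] at e1
      rw [← hsz, mul_inv_eq_one]
      exact e1
    · intro x hx v hv
      have h7 := FOne.norm_V h r hf (hσ1 x) (by rw [hσ2]; exact hx)
      rw [mem_subgroupOf]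
      show σ x * (v : G) * (σ x)⁻¹ ∈ V
      exact (mem_normalizer_iff.1 h7 v).1 hv
  refine hR H (ws V Z) M (FOne.tt h r) A (V.subgroupOf (ws V Z)) (Z.subgroupOf (ws V Z)) (ph r)
    { known := hKG
      finW := inferInstance
      sq := ?_
      surj := hsurj
      dat := D
      flag := hF
      full := ?_
      cent := ?_
      ex := hex
      AV := ?_
      fix := ?_ }
  · intro w
    exact Subtype.ext (PB.Geom.ws_sq_pt h h.isCj_self w w.2)
  · intro v hv hvZ z hz
    obtain ⟨s, hs, e⟩ := h.full v hv (fun e => hvZ e) z hz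
    refine ⟨ρ s, mem_img_of r hs, Subtype.ext ?_⟩
    show ((ρ s • v : ws V Z) : G) * (v : G)⁻¹ = z
    rw [hsm s (h.B_le hs)]
    exact e
  · intro w hw
    rw [mem_subgroupOf]
    refine h.omega w ?_ (PB.Geom.ws_sq_pt h h.isCj_self w w.2) fun s hs => ?_
    · exact h.ws_le_B w.2
    · have e := congrArg Subtype.val (hw (ρ s) (mem_img_of r hs))
      rw [hsm s (h.B_le hs)] at e
      exact mul_inv_eq_iff_eq_mul.1 e
  · intro x hx v hv
    obtain ⟨b, hb, rfl⟩ := (mem_img r).1 hx
    refine Subtype.ext ?_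
    rw [hsm b (hBC hb)]
    have h8 := mem_centralizer_iff.1 (o2_le _ (hB.le hb)) v hv
    rw [← h8, mul_inv_cancel_right]
  · intro w hw x hx
    obtain ⟨b, hb, rfl⟩ := (mem_img r).1 hx
    have h7 : w ∈ (zm M A).comap (ph r) := by
      rw [mem_comap, mem_cv]
      exact hw
    have h8 := mem_centralizer_iff.1 (mem_subgroupOf.1 (h6 h7)) b hb
    refine Subtype.ext ?_
    rw [hsm b (hBC hb), h8, mul_inv_cancel_right]

/-- **(F1) for `q ≥ 4`** at a critical pair. -/
theorem hf_ofR (hML : MLK.{u, u}) (hR : FOneR.{u}) (hq : 4 ≤ Nat.card Z)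
    (hKC : ∀ (H : Type u) [Group H], Img (centralizer (Z : Set G)) H → IsKGroup H) {n : ℕ} (hn : 1 ≤ n)
    {x y : Pt Z} (hc : NOThree.Pts.Crit (PtGeom.inc (Z := Z) (V := V)) (fun x : Pt Z => ws V x.sg) n x y) :
    ¬ kx V Z ≤ centralizer (V : Set G) := by
  intro hf
  obtain ⟨H, M, iH, iM, iA, ρ, π, r⟩ := exists_real h
  let T : Subgroup H := FOne.tt h r
  have hT : ∀ x, x ∈ T ↔ ∃ s ∈ B₀, ρ s = x := fun x => FarQ.FOne.mem_img r
  let lam : Subgroup M := (V.subgroupOf (ws V Z)).map (FarQ.FOne.ph r)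
  have hlam : ∀ m, m ∈ lam ↔ ∃ v ∈ V, π v = m := fun m => FOne.ph_V_mem h r
  have hK := flagK_of h r hq hT hlam
  have hI : Img (centralizer (Z : Set G)) H := FarQ.img_of_real r
  have hKG : IsKGroup H := hKC H hI
  have hNO := kno_of_mlk hML H M T lam hKG hK
  obtain ⟨g, hg, hB⟩ := FOne.off_of_crit h hn hc
  obtain ⟨g', hg', hB'⟩ := FOne.off_of_crit h hn hc.symm
  have hb := hB.conj g⁻¹
  have hb' := hB'.conj g'⁻¹
  rw [cj_cj, cj_cj, inv_mul_cancel, cj_one, cj_one] at hb hb'
  have h1 := FOne.relIndex_le h r hf hb' hNO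
  -- `|W_y : C(W_x)| ≤ |W_x : C(W_y)|`
  have e1 : cj g (cj g⁻¹ (ws V x.sg)) = ws V x.sg := by rw [cj_cj, mul_inv_cancel, cj_one]
  have e2 : cj g' (cj g'⁻¹ (ws V y.sg)) = ws V y.sg := by rw [cj_cj, mul_inv_cancel, cj_one]
  have e3 : ws V y.sg = cj g (ws V Z) := by rw [hg, ws_cj]
  have e4 : ws V x.sg = cj g' (ws V Z) := by rw [hg', ws_cj]
  rw [← FOne.cent_relIndex_conj g' (ws V Z), ← FOne.cent_relIndex_conj g' (cj g'⁻¹ (ws V y.sg)), e2, ← e4] at h1
  refine false_baseR h r hR hKG hf hb ?_ ?_ hNO hK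
  · intro hcon
    apply hc.ne
    intro a ha b hbm
    have h2 : ws V x.sg ≤ centralizer (ws V y.sg : Set G) := by
      rw [← e1, e3, ← cj_centralizer, cj_le_cj]
      exact hcon
    exact (mem_centralizer_iff.1 (h2 ha) b hbm).symm
  · rw [← FOne.cent_relIndex_conj g (ws V Z), ← FOne.cent_relIndex_conj g (cj g⁻¹ (ws V x.sg)), e1, ← e3]
    exact h1

end main

/-- **The socket `FOneB`** (every stage) from (ML) and `FOneR`. -/
theorem fOneB_of_R {K : Cls.{u}} (hML : MLK.{u, u}) (hR : FOneR.{u}) : NO3S.FOneB K := by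
  intro G _ _ _ S P h F _ _ _ hF _ B R hB n y hn hc
  exact Or.inl (hf_ofR hB.pb hML hR (hB.card.symm ▸ hF)
    (fun H _ hI => FarQ.kgroup_of_img h.toHyp.ctx.kproper (centralizer_ne_top h.toHyp hB.pb.Zne) H hI) hn
    (PB.Geom.crit hB.pb hB.pb.V_eq hc))

end Cfsg.Agent.Omega.NO3S.FarB

end

section


/-!
# (F1), the K-route for `R` of any size: the front (helper232; copy of helper81's `FOne.Q.Abs` at the `R`-level)

* `Front.exists_atom` : an exact subgroup contains an atom;
* `Front.tv_of_index_two` : an exact subgroup of order 2 consists of transvections modulo `R`;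
* **`front`** : `RDat` (every stage) ⟹ `SwR`, `AtR` for the submodule generated by one vector of `lam`.
-/

set_option autoImplicit false
set_option linter.unusedSectionVars false

namespace Cfsg.Agent.Omega.FOne.QR

open Subgroup Cfsg
open Cfsg.Agent.ClassTwoFusion.Quad (cv mem_cv)
open Cfsg.Agent.Omega.NO3S.FarQ (FlagK Exact zm fixer)
open Cfsg.Agent.Omega.NO3S.FarQ.FOneAbs (Dat)
open Cfsg.Agent.Omega.NO3S.FarB (RDat)
open Cfsg.Agent.Omega.ML.MinFrame (orb fxr)
open Cfsg.Agent.ZN (o2)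
open Cfsg.Agent.MinSimple.VModule (o2_le o2_isPGroup le_normalizer_o2)

universe u v

section pure

variable {H : Type u} [Group H] {W : Type v} [AddCommGroup W] [DistribMulAction H W] {R : AddSubgroup W}

/-- An exact subgroup `≠ 1` contains an atom. -/
theorem Front.exists_atom [Finite H] {A : Subgroup H} (A1 : A ≠ ⊥) (hex : (cmR R A).index = Nat.card A)
    (hno : ∀ C : Subgroup H, C ≤ A → Nat.card C ≤ (cmR R C).index) :
    ∃ B : Subgroup H, B ≤ A ∧ B ≠ ⊥ ∧ (cmR R B).index = Nat.card B ∧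
      ∀ C : Subgroup H, C ≤ B → C ≠ ⊥ → C ≠ B → Nat.card C < (cmR R C).index := by
  have hfin : Finite (Subgroup H) := inferInstance
  obtain ⟨B, hB⟩ := (Set.toFinite {B : Subgroup H | B ≤ A ∧ B ≠ ⊥ ∧ (cmR R B).index = Nat.card B}).exists_minimal
    ⟨A, le_rfl, A1, hex⟩
  obtain ⟨h1, h2, h3⟩ := hB.prop
  refine ⟨B, h1, h2, h3, fun C hC hC1 hCB => lt_of_le_of_ne (hno C (hC.trans h1)) fun h4 => hCB ?_⟩
  exact le_antisymm hC (hB.le_of_le (y := C) ⟨hC.trans h1, hC1, h4.symm⟩ hC)

/-- `|W / R : C(B)| = 2` : transvections modulo `R` -/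
theorem Front.tv_of_index_two {B : Subgroup H} (h2 : (cmR R B).index = 2) {b : H} (hb : b ∈ B) (v w : W) :
    b • v + v ∈ R ∨ b • w + w ∈ R ∨ b • (v + w) + (v + w) ∈ R := by
  by_cases hv : v ∈ cmR R B
  · exact Or.inl (hv b hb)
  · by_cases hw : w ∈ cmR R B
    · exact Or.inr (Or.inl (hw b hb))
    · refine Or.inr (Or.inr ?_)
      have h : v + w ∈ cmR R B := (AddSubgroup.add_mem_iff_of_index_two h2).2 ⟨fun h => absurd h hv, fun h => absurd h hw⟩
      exact h b hb

end pure

section main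

variable {H W M : Type u} [Group H] [CommGroup W] [MulDistribMulAction H W] [CommGroup M]
  [MulDistribMulAction H M]

/-- the action on `U`, additively -/
@[reducible] def actA {U : Subgroup W} (hU : ∀ h : H, ∀ w ∈ U, h • w ∈ U) : DistribMulAction H (Additive U) where
  smul h w := Additive.ofMul ⟨h • ((Additive.toMul w : U) : W), hU h _ (Additive.toMul w).2⟩
  one_smul w := congrArg Additive.ofMul (Subtype.ext (one_smul H ((Additive.toMul w : U) : W)))
  mul_smul g h w := congrArg Additive.ofMul (Subtype.ext (mul_smul g h ((Additive.toMul w : U) : W)))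
  smul_zero g := congrArg Additive.ofMul (Subtype.ext (smul_one g))
  smul_add g v w := congrArg Additive.ofMul (Subtype.ext (smul_mul' g ((Additive.toMul v : U) : W)
    ((Additive.toMul w : U) : W)))

/-- **The front**: `RDat` at any stage gives the situation of the reduction. -/
theorem front (hML : ML.Final.MLK.{u, u}) {T A : Subgroup H} {V R : Subgroup W} {π : W →* M}
    (P : RDat T A V R π) :
    ∃ (W' : Type u) (_ : AddCommGroup W') (_ : DistribMulAction H W') (R' : AddSubgroup W') (θ : W')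
      (N B : Subgroup H), SwR R' θ T N ∧ AtR R' N B := by
  classical
  have hfW := P.finW
  have D := P.dat
  have F := P.flag
  have hfH := F.finH
  have hfM := F.finM
  -- `R` is centralised, `π` is equivariant
  have hcm : ∀ (x : H) (w : W), (x • w) * w⁻¹ ∈ R ↔ x • π w = π w := by
    intro x w
    rw [← D.ker, map_mul, map_inv, D.equi, mul_inv_eq_one]
  have hlm : ∀ v ∈ V, π v ∈ V.map π := fun v hv => mem_map_of_mem π hv
  have hlin : ∀ (h : H) (v : W), v ∈ V → v ∉ R → h • π v = π v → ∀ b ∈ V.map π, h • b = b := by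
    intro h v hv hvR e
    exact F.lin _ (hlm v hv) (fun e1 => hvR ((D.ker v).1 e1)) h e
  -- an element fixing one vector of `lam ^ g` fixes all of them
  have hlin' : ∀ (x g : H) (v : W), v ∈ V → v ∉ R → x • g • π v = g • π v → ∀ b ∈ V.map π, x • g • b = g • b := by
    intro x g v hv hvR e b hb
    have h1 : (g⁻¹ * x * g) • π v = π v := by
      rw [mul_smul, mul_smul, e, inv_smul_smul]
    have h2 := hlin _ v hv hvR h1 b hb
    rw [mul_smul, mul_smul, inv_smul_eq_iff] at h2
    exact h2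
  have htriv : ∀ x : H, (∀ g : H, ∀ b ∈ V.map π, x • g • b = g • b) → x = 1 := by
    intro x hx
    refine F.faith x fun m => ?_
    let N : Subgroup M :=
      { carrier := {m | x • m = m}
        one_mem' := smul_one x
        mul_mem' := fun {a b} ha hb => by
          change x • (a * b) = a * b
          rw [smul_mul', ha, hb]
        inv_mem' := fun {a} ha => by
          change x • a⁻¹ = a⁻¹
          rw [smul_inv', ha] }
    have hN := F.gen N fun h a ha => hx h a ha
    have : m ∈ N := by rw [hN]; exact mem_top m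
    exact this
  -- a vector `a ∈ V - R`
  obtain ⟨t₀, ht₀, a, ha, hta⟩ := D.ne
  have haR : a ∉ R := fun h => hta (D.fixR t₀ a h)
  -- the module of `a`
  set Ma : Subgroup M := orb (⊤ : Subgroup H) (π a) with hMa
  set U : Subgroup W := Ma.comap π with hU
  have hMaH : ∀ (h : H), ∀ m ∈ Ma, h • m ∈ Ma := by
    intro h m hm
    have h1 : Ma ≤ Ma.comap (MulDistribMulAction.toMonoidHom M h) := by
      rw [hMa, orb, closure_le]
      rintro _ ⟨g, -, rfl⟩
      change h • g • π a ∈ orb (⊤ : Subgroup H) (π a)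
      rw [← mul_smul]
      exact subset_closure ⟨h * g, mem_top _, rfl⟩
    exact h1 hm
  have hUH : ∀ (h : H), ∀ w ∈ U, h • w ∈ U := by
    intro h w hw
    rw [hU, mem_comap, D.equi]
    exact hMaH h _ hw
  have hRU : R ≤ U := by
    intro r hr
    rw [hU, mem_comap, (D.ker r).2 hr]
    exact one_mem _
  have hgaU : ∀ h : H, h • a ∈ U := by
    intro h
    rw [hU, mem_comap, D.equi]
    exact subset_closure ⟨h, mem_top _, rfl⟩
  have haU : a ∈ U := by
    have := hgaU 1
    rwa [one_smul] at this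
  set lam := V.map π with hlam
  -- the additive module
  let act1 : DistribMulAction H (Additive U) := actA hUH
  let ι : Additive U → W := fun w => ((Additive.toMul w : U) : W)
  have ιadd : ∀ v w, ι (v + w) = ι v * ι w := fun _ _ => rfl
  have ιsm : ∀ (h : H) w, ι (h • w) = h • ι w := fun _ _ => rfl
  have ιU : ∀ w, ι w ∈ U := fun w => (Additive.toMul w : U).2
  have ιinj : ∀ v w, ι v = ι w → v = w := fun v w h => congrArg Additive.ofMul (Subtype.ext h : Additive.toMul v = Additive.toMul w)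
  let mk : ∀ w : W, w ∈ U → Additive U := fun w hw => Additive.ofMul ⟨w, hw⟩
  have ιmk : ∀ w hw, ι (mk w hw) = w := fun _ _ => rfl
  let R' : AddSubgroup (Additive U) := Subgroup.toAddSubgroup (R.subgroupOf U)
  have hR' : ∀ w, w ∈ R' ↔ ι w ∈ R := fun w => Iff.rfl
  have hinv : ∀ w : W, w⁻¹ = w := fun w => inv_eq_of_mul_eq_one_left (P.sq w)
  -- `x • w + w ∈ R'`
  have hcr : ∀ (x : H) (w : Additive U), x • w + w ∈ R' ↔ x • π (ι w) = π (ι w) := by
    intro x w
    rw [hR', ιadd, ιsm, ← hcm, hinv]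
  let θ : Additive U := mk a haU
  -- the group `N`
  let N : Subgroup H := o2 (fixer lam)
  have hAN : A ≤ N := P.ex.le
  have hgen : ∀ X : AddSubgroup (Additive U), R' ≤ X → (∀ x : H, x • θ ∈ X) → X = ⊤ := by
    intro X hRX hX
    rw [eq_top_iff]
    rintro w -
    let Y : Subgroup M :=
      { carrier := {m | ∃ u ∈ X, π (ι u) = m}
        one_mem' := ⟨0, X.zero_mem, by
          change π ((1 : U) : W) = 1
          rw [Subgroup.coe_one, map_one]⟩
        mul_mem' := by
          rintro _ _ ⟨u, hu, rfl⟩ ⟨v, hv, rfl⟩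
          exact ⟨u + v, X.add_mem hu hv, by rw [ιadd, map_mul]⟩
        inv_mem' := by
          rintro _ ⟨u, hu, rfl⟩
          exact ⟨u, hu, by rw [← map_inv, hinv]⟩ }
    have h1 : Ma ≤ Y := by
      rw [hMa, orb, closure_le]
      rintro _ ⟨g, -, rfl⟩
      exact ⟨g • θ, hX g, by rw [ιsm, D.equi]; rfl⟩
    obtain ⟨u, hu, e⟩ := h1 (ιU w)
    have h2 : w + u ∈ R' := by
      rw [hR', ιadd, ← D.ker, map_mul, e, ← map_mul, P.sq, map_one]
    have h3 := X.add_mem (hRX h2) hu
    have h4 : w + u + u = w := by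
      apply ιinj
      rw [ιadd, ιadd, mul_assoc, P.sq, mul_one]
    rwa [h4] at h3
  have S : SwR R' θ T N :=
    { known := P.known
      finX := hfH
      finW := inferInstance
      two := fun w => ιinj _ _ (P.sq (ι w))
      fixR := fun x r hr => ιinj _ _ (D.fixR x _ hr)
      faith := by
        intro x hx
        refine htriv x fun g b hb => hlin' x g a ha haR ?_ b hb
        have h1 := (hcr x (g • θ)).1 (hx _)
        rwa [ιsm, D.equi] at h1
      T2 := F.two
      syl := F.ndvd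
      fixT := by
        intro w hw
        exact P.cent _ fun t ht => congrArg ι (hw t ht)
      θR := haR
      Tθ := by
        intro t ht
        rw [hcr]
        exact F.fix t ht _ (hlm a ha)
      gen := hgen
      N2 := o2_isPGroup _
      Nθ := by
        intro n hn
        rw [hcr]
        exact o2_le _ hn _ (hlm a ha)
      Nn := by
        intro x hx n hn
        rw [hcr] at hx
        have h2 : x ∈ (fixer lam : Subgroup H) := hlin x a ha haR hx
        exact (mem_normalizer_iff.1 (le_normalizer_o2 _ h2) n).1 hn }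
  -- `A` is exact
  let f : Multiplicative (Additive U) →* M := MonoidHom.mk' (fun w => π (ι (Multiplicative.toAdd w))) fun v w => by
    rw [toAdd_mul, ιadd, map_mul]
  have hfr : f.range = Ma := by
    ext m
    constructor
    · rintro ⟨w, rfl⟩
      exact ιU (Multiplicative.toAdd w)
    · intro hm
      obtain ⟨w, rfl⟩ := P.surj m
      exact ⟨Multiplicative.ofAdd (mk w hm), rfl⟩
  have hcmA : AddSubgroup.toSubgroup (cmR R' A) = (zm M A).comap f := by
    ext w
    rw [mem_comap]
    change Multiplicative.toAdd w ∈ cmR R' A ↔ f w ∈ cv M (A : Set H)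
    rw [mem_cmR, mem_cv]
    exact forall₂_congr fun x _ => hcr x _
  have hrel : (cmR R' A).index = (zm M A).relIndex Ma := by
    have h1 : (AddSubgroup.toSubgroup (cmR R' A)).index = (zm M A).relIndex Ma := by
      rw [hcmA, index_comap, hfr]
    exact h1
  have hno : ∀ C : Subgroup H, C ≤ A → Nat.card C ≤ (cmR R' C).index := fun C hC =>
    S.no hML (hC.trans hAN) fun c hc => P.ex.sq c (hC hc)
  have hrs : (zm M A).relIndex (Ma ⊔ zm M A) = (zm M A).relIndex Ma := relIndex_sup_right _ _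
  have hmul : (zm M A).relIndex (Ma ⊔ zm M A) * (Ma ⊔ zm M A).index = (zm M A).index :=
    relIndex_mul_index le_sup_right
  rw [hrs, ← hrel] at hmul
  have hone : (Ma ⊔ zm M A).index = 1 := by
    have h1 := P.ex.card
    have h2 : 0 < (Ma ⊔ zm M A).index := Nat.pos_of_ne_zero index_ne_zero_of_finite
    have h0 := hno A le_rfl
    by_contra h3
    have h4 : 2 ≤ (Ma ⊔ zm M A).index := by omega
    have h5 : (cmR R' A).index * 2 ≤ (zm M A).index := by rw [← hmul]; exact Nat.mul_le_mul_left _ h4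
    have h6 : 0 < Nat.card A := Nat.card_pos
    omega
  have hsup : Ma ⊔ zm M A = ⊤ := index_eq_one.1 hone
  have hexA : (cmR R' A).index = Nat.card A := by
    rw [hone, mul_one] at hmul
    rw [hmul]; exact P.ex.card.symm
  -- the atom
  obtain ⟨B, hBA, hB1, hBex, hBat⟩ := Front.exists_atom P.ex.ne hexA hno
  refine ⟨Additive U, inferInstance, act1, R', θ, N, B, S, hBA.trans hAN, fun b hb => P.ex.sq b (hBA hb), ?_, ?_,
    hBex, hBat⟩
  · intro x hx z hz w
    rw [hcr, ιadd, ιsm, map_mul, D.equi]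
    have h1 := P.ex.quad z (hBA hz) x (hBA hx) (π (ι w))
    have h2 : (π (ι w))⁻¹ = π (ι w) := by rw [← map_inv, hinv]
    rwa [h2] at h1
  · -- `|B| = 2` is impossible
    by_contra h4
    have hB2 : IsPGroup 2 B := S.N2.to_le (hBA.trans hAN)
    have hcard : Nat.card B = 2 := by
      have : Fact (Nat.Prime 2) := ⟨Nat.prime_two⟩
      obtain ⟨n, hn⟩ := IsPGroup.iff_card.1 hB2
      match n, hn with
      | 0, hn =>
        exfalso
        apply hB1
        rw [pow_zero] at hn
        exact card_eq_one.1 hn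
      | 1, hn => rw [hn, pow_one]
      | n + 2, hn =>
        exfalso
        apply h4
        rw [hn, pow_add]
        have := Nat.one_le_two_pow (n := n)
        omega
    obtain ⟨g, hg, hg1⟩ : ∃ g ∈ B, g ≠ 1 := by
      by_contra hcon
      push Not at hcon
      exact hB1 ((eq_bot_iff_forall B).2 hcon)
    rw [hcard] at hBex
    -- on `Ma`
    have hgm : ∀ m ∈ Ma, ∀ n ∈ Ma, g • m = m ∨ g • n = n ∨ g • (m * n) = m * n := by
      intro m hm n hn
      obtain ⟨v, rfl⟩ := P.surj m
      obtain ⟨w, rfl⟩ := P.surj n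
      have hv : v ∈ U := hm
      have hw : w ∈ U := hn
      have h1 := Front.tv_of_index_two hBex hg (mk v hv) (mk w hw)
      rw [hcr, hcr, hcr, ιadd, ιmk, ιmk, map_mul] at h1
      exact h1
    have hgM : ∀ m n : M, g • m = m ∨ g • n = n ∨ g • (m * n) = m * n := by
      intro m n
      have h1 : ∀ m : M, ∃ m' ∈ Ma, ∃ c ∈ zm M A, m = m' * c := by
        intro m
        have : m ∈ Ma ⊔ zm M A := by rw [hsup]; exact mem_top m
        obtain ⟨x, hx, c, hc, e⟩ := mem_sup.1 this
        exact ⟨x, hx, c, hc, e.symm⟩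
      obtain ⟨m', hm', c, hc, rfl⟩ := h1 m
      obtain ⟨n', hn', d, hd, rfl⟩ := h1 n
      have hc' : g • c = c := mem_cv.1 hc g (hBA hg)
      have hd' : g • d = d := mem_cv.1 hd g (hBA hg)
      rcases hgm m' hm' n' hn' with h | h | h
      · left; rw [smul_mul', h, hc']
      · right; left; rw [smul_mul', h, hd']
      · right; right
        have e : m' * c * (n' * d) = m' * n' * (c * d) := mul_mul_mul_comm _ _ _ _
        rw [e, smul_mul' g (m' * n'), h, smul_mul', hc', hd']
    -- two independent elements of `lam`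
    obtain ⟨b₁, hb₁, b₂, hb₂, n1, n2, n3⟩ : ∃ b₁ ∈ V, ∃ b₂ ∈ V, b₁ ∉ R ∧ b₂ ∉ R ∧ b₁ * b₂ ∉ R := by
      by_contra hcon
      push Not at hcon
      have h1 : (lam : Set M) ⊆ (({1, π a} : Finset M) : Set M) := by
        rintro _ ⟨v, hv, rfl⟩
        simp only [Finset.coe_insert, Finset.coe_singleton, Set.mem_insert_iff, Set.mem_singleton_iff]
        by_cases hvR : v ∈ R
        · left; exact (D.ker v).2 hvR
        · right
          have h2 := hcon v hv a ha hvR haR
          have h3 := (D.ker _).2 h2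
          rw [map_mul] at h3
          have h4 : π a * π a = 1 := F.sq _
          exact (mul_left_inj (π a)).1 (h3.trans h4.symm)
      have h2 := Set.ncard_le_ncard h1 (Finset.finite_toSet _)
      rw [Set.ncard_coe_finset] at h2
      have h3 : (lam : Set M).ncard = Nat.card lam := rfl
      have h4 := Finset.card_le_two (a := (1 : M)) (b := π a)
      have h5 := F.four
      omega
    apply hg1
    refine htriv g fun h b hb => ?_
    rcases hgM (h • π b₁) (h • π b₂) with e | e | e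
    · exact hlin' g h b₁ hb₁ n1 e b hb
    · exact hlin' g h b₂ hb₂ n2 e b hb
    · refine hlin' g h (b₁ * b₂) (V.mul_mem hb₁ hb₂) n3 ?_ b hb
      rw [map_mul, smul_mul']
      exact e

end main

end Cfsg.Agent.Omega.FOne.QR

end

section


/-!
# (F1), `q ≥ 4`, over the `(R, B)`-frame: the socket `FOneB` from (ML) and the K-input on the blocks

* `fOneB_of_kps` : `NO3S.FOneB K` (`Node/NO3SLevel.lean`, every `n ≥ 1`) from `MLK` and `KPS` for K-groups (`front` of
  `FarB/Node.lean`, helper973).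

(The socket `FarBF` is `FarQ.Free.farBF`, `Free/End.lean`.)
-/

set_option autoImplicit false
set_option linter.unusedSectionVars false

namespace Cfsg.Agent.Omega.NO3S.FarB

open Subgroup Cfsg
open Cfsg.Agent.Omega.NO3S.FarQ (KPS)
open Cfsg.Agent.Omega.ML.Final (MLK)

universe u

/-- **(F1) from the K-input on the blocks.** -/
theorem fOneB_of_kps {K : Frame.Cls.{u}} (hML : MLK.{u, u}) (hPS : KPS.{u} (fun H _ => IsKGroup H)) :
    NO3S.FOneB K := by
  intro G _ _ _ S P h F _ _ _ hF _ B R hB n y hn hc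
  exact Or.inl (front hML hPS h.toHyp hB.pb (hB.card.symm ▸ hF) hn hc)

end Cfsg.Agent.Omega.NO3S.FarB

end
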