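import Cfsg.Agent.Mrg.Omega.NO3S.FarB.End
import Cfsg.Agent.Mrg.Omega.NO3S.FarQ.Node
import Cfsg.Agent.Mrg.Omega.NO3S.Fld.NS
import Cfsg.Agent.Mrg.Omega.Node.NO3SLevel


/-!
# NO-3S, natural lines, `q ≥ 4`: the socket `FarB`, and the front of `MidB`

* `farB` : `FarB K` from (ML) (`MLK`) and the K-input on the blocks (`KPS` for K-groups);
* `front` : for a critical pair at distance `n ≥ 1`: (F1); `mid_front` : for `n = 2` the realised flag `RD`, the blocks
  `PSall` and `Single`.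
-/

set_option autoImplicit false
set_option linter.unusedSectionVars false

namespace Cfsg.Agent.Omega.NO3S.FarB

open Subgroup Cfsg Cfsg.Agent.ZN Cfsg.Agent.MinSimple.VModule Cfsg.Agent.Omega.NOThree.Pts
open Cfsg.Agent.Omega.NO3S.FarQ (FlagK NoOv PSall KNO KPS Img Real RD Single PSq kno_of_mlk centralizer_zc_ne_top)
open Cfsg.Agent.Omega.NO3S.FarQ.Glue Cfsg.Agent.Omega.NO3S.PT Cfsg.Agent.Omega.NO3S.PtGeom
open Cfsg.Agent.Omega.ML.Final (MLK)
open Cfsg.Agent.Omega.MinPar Cfsg.Agent.Omega.Frame Cfsg.Agent.Omega.FrameNOFF Cfsg.Agent.Omega.NatPair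
open scoped Pointwise

universe u

variable {G : Type u} [Group G] [Finite G] {S : Sylow 2 G} {P B R : Subgroup G}

/-- `C_G(R)` is a proper subgroup. -/
theorem centralizer_ne_top (h : Hyp S P) (hR : R ≠ ⊥) : centralizer (R : Set G) ≠ ⊤ := by
  intro htop
  have := h.ctx.simple
  have hZ : R ≤ center G := by
    intro z hz
    rw [mem_center_iff]
    intro g
    have hg : g ∈ centralizer (R : Set G) := by rw [htop]; exact mem_top g
    exact (mem_centralizer_iff.1 hg z hz).symm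
  rcases (inferInstance : (center G).Normal).eq_bot_or_eq_top with h1 | h1
  · exact hR (le_bot_iff.1 (hZ.trans h1.le))
  · apply h.ctx.nonComm
    refine ⟨⟨fun a b => ?_⟩⟩
    have hb : b ∈ center G := by rw [h1]; exact mem_top b
    exact mem_center_iff.1 hb a

/-- the K-inputs for `C_G(R)` -/
theorem inputs (h : Hyp S P) (hR : R ≠ ⊥) (hML : MLK.{u, u}) (hPS : KPS.{u} (fun H _ => IsKGroup H)) :
    KNO.{u} (fun H _ => Img (centralizer (R : Set G)) H) ∧
      KPS.{u} (fun H _ => Img (centralizer (R : Set G)) H) :=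
  ⟨(kno_of_mlk hML).mono fun H _ hI => FarQ.kgroup_of_img h.ctx.kproper (centralizer_ne_top h hR) H hI,
    hPS.mono fun H _ hI => FarQ.kgroup_of_img h.ctx.kproper (centralizer_ne_top h hR) H hI⟩

/-- no critical pair at distance `n ≥ 3` -/
theorem far (hML : MLK.{u, u}) (hPS : KPS.{u} (fun H _ => IsKGroup H)) (h : Hyp S P)
    (hp : PB S B P (zl (S : Subgroup G) P) R) (hO : OmB B (zl (S : Subgroup G) P)) (hq : 4 ≤ Nat.card R) {n : ℕ}
    (hn : 3 ≤ n) {y : G} (hc : NoFF.Lines.Crit R (normalizer (R : Set G)) {P} n 1 y) : False := by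
  obtain ⟨h2, h3⟩ := inputs h hp.Zne hML hPS
  exact far_false hp hO hq h2 h3 hn (PB.Geom.crit hp hp.V_eq hc)

/-- **The socket `FarB`** from (ML) and the K-input on the blocks. -/
theorem farB {K : Cls.{u}} (hML : MLK.{u, u}) (hPS : KPS.{u} (fun H _ => IsKGroup H)) : NO3S.FarB K := by
  intro G _ _ _ S P h F _ _ _ hF _ B R hB n y hn hc
  exact (far hML hPS h.toHyp hB.pb hB.om (hB.card.symm ▸ hF) hn hc).elim

/-- **(F1)**: the front of `MidB`, `OneB`. -/
theorem front (hML : MLK.{u, u}) (hPS : KPS.{u} (fun H _ => IsKGroup H)) (h : Hyp S P)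
    (hp : PB S B P (zl (S : Subgroup G) P) R) (hq : 4 ≤ Nat.card R) {n : ℕ}
    (hn : 1 ≤ n) {y : G} (hc : NoFF.Lines.Crit R (normalizer (R : Set G)) {P} n 1 y) :
    ¬ kx (zl (S : Subgroup G) P) R ≤ centralizer (zl (S : Subgroup G) P : Set G) := by
  obtain ⟨h2, h3⟩ := inputs h hp.Zne hML hPS
  exact hf_of_kin hp hq hn (PB.Geom.crit hp hp.V_eq hc) h2 h3

/-- **`MidB` is `Single`.** -/
theorem mid_front (hML : MLK.{u, u}) (hPS : KPS.{u} (fun H _ => IsKGroup H)) (h : Hyp S P)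
    (hp : PB S B P (zl (S : Subgroup G) P) R) (hO : OmB B (zl (S : Subgroup G) P)) (hq : 4 ≤ Nat.card R)
    {y : G} (hc : NoFF.Lines.Crit R (normalizer (R : Set G)) {P} 2 1 y) :
    ∃ (H M K : Type u) (_ : Group H) (_ : CommGroup M) (_ : MulDistribMulAction H M) (_ : CommGroup K)
      (ρ : G → H) (π : G → M) (ζ : K →* G) (T : Subgroup H) (lam U : Subgroup M) (Kh : Subgroup (M →* K))
      (Pi : Set (Subgroup H)),
      RD (PtGeom.inc (Z := R) (V := zl (S : Subgroup G) P)) (fun x => x.sg)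
        (fun x => ws (zl (S : Subgroup G) P) x.sg) (fun l => l.sg) (Pt.base _) (Pt.base _)
        B ρ π ζ T lam U Kh ∧ PSall K T lam Pi ∧ NoOv (H := H) lam ∧ IsKGroup H ∧ Single Pi lam := by
  obtain ⟨h2, h3⟩ := inputs h hp.Zne hML hPS
  have hf := front hML hPS h hp hq (by norm_num) hc
  obtain ⟨H, M', K, iH, iM, iA, iK, ρ, π, ζ, T, lam, U, Kh, D⟩ := exists_rd hp hf hO hq
  have hI : Img (centralizer (R : Set G)) H :=
    ⟨MonoidHom.mk' (fun a => ρ a) (fun a b => D.re.mul a a.2 b b.2), fun x => by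
      obtain ⟨g, hg, rfl⟩ := D.re.surj x
      exact ⟨⟨g, hg⟩, rfl⟩⟩
  obtain ⟨Pi, hPi⟩ := h3 H M' K T lam hI D.flag.toK D.flag.sqR D.flag.cardR
  exact ⟨H, M', K, iH, iM, iA, iK, ρ, π, ζ, T, lam, U, Kh, Pi, D, hPi, h2 H M' T lam hI D.flag.toK,
    FarQ.kgroup_of_img h.ctx.kproper (centralizer_ne_top h hp.Zne) H hI,
    mid_single hp hO hq h2 hf (PB.Geom.crit hp hp.V_eq hc) D hPi.toPSq⟩

end Cfsg.Agent.Omega.NO3S.FarB
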